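import Mathlib.Algebra.MvPolynomial.PDeriv
import Mathlib.RingTheory.RegularLocalRing.Defs
import Mathlib.LinearAlgebra.Matrix.Rank
import Mathlib.RingTheory.Localization.AtPrime.Basic
import Mathlib.RingTheory.Polynomial.Basic

/-!
# The cotangent space at a rational point
-/

set_option backward.isDefEq.respectTransparency false
set_option backward.isDefEq.respectTransparency.types false

universe u

open MvPolynomial IsLocalRing

namespace JacPointLib

variable {k : Type u} [Field k] {n : ℕ}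

/-- The gradient at a point. -/
noncomputable def grad (a : Fin n → k) : MvPolynomial (Fin n) k →ₗ[k] (Fin n → k) :=
  LinearMap.pi fun j => (aeval a).toLinearMap ∘ₗ (pderiv j).toLinearMap

theorem grad_apply (a : Fin n → k) (f : MvPolynomial (Fin n) k) (j : Fin n) :
    grad a f j = eval a (pderiv j f) := rfl

theorem grad_mul (a : Fin n → k) (f g : MvPolynomial (Fin n) k) :
    grad a (f * g) = eval a f • grad a g + eval a g • grad a f := by
  funext j
  simp [grad_apply, mul_comm, add_comm]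

theorem grad_C (a : Fin n → k) (c : k) : grad a (C c) = 0 := by
  funext j; simp [grad_apply]

theorem sub_mem_eval (a : Fin n → k) (i : Fin n) : X i - C (a i) ∈ RingHom.ker (eval a) := by
  simp [RingHom.mem_ker]

/-- Taylor expansion to first order. -/
theorem taylor (a : Fin n → k) (f : MvPolynomial (Fin n) k) :
    f - C (eval a f) - ∑ j, C (grad a f j) * (X j - C (a j)) ∈ RingHom.ker (eval a) ^ 2 := by
  induction f using MvPolynomial.induction_on with
  | C c => simp [grad_C]
  | add p q hp hq =>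
    have h := add_mem hp hq
    have hs : ∑ j, C (grad a (p + q) j) * (X j - C (a j)) =
        ∑ j, C (grad a p j) * (X j - C (a j)) + ∑ j, C (grad a q j) * (X j - C (a j)) := by
      rw [← Finset.sum_add_distrib]
      exact Finset.sum_congr rfl fun j _ => by rw [map_add, Pi.add_apply, map_add, add_mul]
    rw [hs, map_add, map_add]
    convert h using 1
    ring
  | mul_X p i hp =>
    have hgX : ∀ j, grad a (X i) j = (Pi.single i 1 : Fin n → k) j := fun j => by
      rw [grad_apply]
      rcases eq_or_ne i j with rfl | h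
      · simp
      · simp [h, h.symm]
    have hs : ∑ j, C (grad a (p * X i) j) * (X j - C (a j)) =
        C (a i) * (∑ j, C (grad a p j) * (X j - C (a j))) + C (eval a p) * (X i - C (a i)) := by
      have h1 : ∀ j, C (grad a (p * X i) j) * (X j - C (a j)) =
          C (a i) * (C (grad a p j) * (X j - C (a j))) +
            (if i = j then C (eval a p) * (X i - C (a i)) else 0) := fun j => by
        rw [grad_mul, Pi.add_apply, Pi.smul_apply, Pi.smul_apply, hgX, eval_X]
        split_ifs with h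
        · subst h; simp; ring
        · simp [Pi.single_eq_of_ne (Ne.symm h)]; ring
      rw [Finset.sum_congr rfl fun j _ => h1 j, Finset.sum_add_distrib, ← Finset.mul_sum,
        Finset.sum_ite_eq, if_pos (Finset.mem_univ i)]
    rw [hs, map_mul, eval_X, map_mul]
    have h2 : (∑ j, C (grad a p j) * (X j - C (a j))) * (X i - C (a i)) ∈ RingHom.ker (eval a) ^ 2 := by
      rw [pow_two]
      exact Ideal.mul_mem_mul (sum_mem fun j _ => Ideal.mul_mem_left _ _ (sub_mem_eval a j)) (sub_mem_eval a i)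
    convert add_mem (Ideal.mul_mem_right (X i) _ hp) h2 using 1
    ring

theorem grad_of_mem_sq (a : Fin n → k) {f : MvPolynomial (Fin n) k} (hf : f ∈ RingHom.ker (eval a) ^ 2) :
    grad a f = 0 := by
  rw [pow_two] at hf
  refine Submodule.mul_induction_on hf (fun x hx y hy => ?_) fun x y hx hy => by rw [map_add, hx, hy, add_zero]
  rw [grad_mul, RingHom.mem_ker.1 hx, RingHom.mem_ker.1 hy, zero_smul, zero_smul, add_zero]

theorem finrank_cotangentSpace_add_rank {r : ℕ} (F : Fin r → MvPolynomial (Fin n) k) (a : Fin n → k)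
    (I : Ideal (MvPolynomial (Fin n) k)) (hI : I = Ideal.span (Set.range F))
    (𝔪 : Ideal (MvPolynomial (Fin n) k ⧸ I)) [𝔪.IsMaximal]
    (h𝔪 : 𝔪.comap (Ideal.Quotient.mk I) = RingHom.ker (eval a))
    (Rm : Type u) [CommRing Rm] [IsLocalRing Rm] [Algebra (MvPolynomial (Fin n) k ⧸ I) Rm] [Algebra k Rm]
    [IsScalarTower k (MvPolynomial (Fin n) k ⧸ I) Rm] [IsLocalization.AtPrime Rm 𝔪] :
    Module.finrank (ResidueField Rm) (CotangentSpace Rm) +
      (Matrix.of fun i j => eval a (pderiv j (F i))).rank = n := by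
  classical
  set M := RingHom.ker (eval a)
  let π : MvPolynomial (Fin n) k →ₐ[k] Rm :=
    (IsScalarTower.toAlgHom k (MvPolynomial (Fin n) k ⧸ I) Rm).comp (Ideal.Quotient.mkₐ k I)
  have hπ : ∀ f, π f = algebraMap _ Rm (Ideal.Quotient.mk I f) := fun f => rfl
  have hmk : ∀ f, Ideal.Quotient.mk I f ∈ 𝔪 ↔ f ∈ M := fun f => by rw [← h𝔪]; rfl
  have hπM : ∀ f, π f ∈ maximalIdeal Rm ↔ f ∈ M := fun f => by
    rw [hπ, IsLocalization.AtPrime.to_map_mem_maximal_iff Rm 𝔪, hmk]
  have hIM : I ≤ M := fun f hf => (hmk f).1 (by rw [Ideal.Quotient.eq_zero_iff_mem.2 hf]; exact 𝔪.zero_mem)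
  have hFI : ∀ i, F i ∈ I := fun i => by rw [hI]; exact Ideal.subset_span ⟨i, rfl⟩
  have hinv : ∀ s : MvPolynomial (Fin n) k, s ∉ M → C (eval a s)⁻¹ * s - 1 ∈ M := fun s hs => by
    have hs' : eval a s ≠ 0 := fun h => hs (RingHom.mem_ker.2 h)
    simp [M, RingHom.mem_ker, hs']
  have happrox : ∀ x : Rm, ∃ g : MvPolynomial (Fin n) k, ∃ e ∈ maximalIdeal Rm,
      π g - x = x * e ∧ (x ∈ maximalIdeal Rm → g ∈ M) := fun x => by
    obtain ⟨⟨q, s⟩, rfl⟩ : ∃ p : _ × 𝔪.primeCompl, IsLocalization.mk' Rm p.1 p.2 = x := by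
      obtain ⟨q, s, h⟩ := IsLocalization.exists_mk'_eq 𝔪.primeCompl x
      exact ⟨⟨q, s⟩, h⟩
    obtain ⟨q₀, rfl⟩ := Ideal.Quotient.mk_surjective q
    obtain ⟨s₀, hs₀⟩ := Ideal.Quotient.mk_surjective (s : MvPolynomial (Fin n) k ⧸ I)
    have hs : s₀ ∉ M := fun h => s.2 (hs₀ ▸ (hmk s₀).2 h)
    refine ⟨C (eval a s₀)⁻¹ * q₀, π (C (eval a s₀)⁻¹ * s₀ - 1), (hπM _).2 (hinv s₀ hs), ?_, fun hx => ?_⟩
    · have h1 : IsLocalization.mk' Rm (Ideal.Quotient.mk I q₀) s * π s₀ = π q₀ := by
        rw [hπ s₀, hs₀]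
        exact IsLocalization.mk'_spec Rm _ s
      rw [map_sub, map_one, map_mul, map_mul, ← h1]
      ring
    · rw [IsLocalization.AtPrime.mk'_mem_maximal_iff Rm 𝔪, hmk] at hx
      exact Ideal.mul_mem_left _ _ hx
  let Ms : Submodule k (MvPolynomial (Fin n) k) := M.restrictScalars k
  let ψ : Ms →ₗ[k] CotangentSpace Rm :=
    { toFun := fun f => (maximalIdeal Rm).toCotangent ⟨π f, (hπM _).2 f.2⟩
      map_add' := fun f g => by rw [← map_add]; exact congrArg _ (Subtype.ext (map_add π _ _))
      map_smul' := fun c f => by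
        rw [RingHom.id_apply, ← LinearMap.map_smul_of_tower]
        exact congrArg _ (Subtype.ext (map_smul π c _)) }
  have hψsurj : Function.Surjective ψ := fun y => by
    obtain ⟨x, rfl⟩ := Ideal.toCotangent_surjective _ y
    obtain ⟨g, e, he, hge, hgM⟩ := happrox x
    refine ⟨⟨g, hgM x.2⟩, ?_⟩
    show (maximalIdeal Rm).toCotangent _ = _
    rw [Ideal.toCotangent_eq]
    show π g - (x : Rm) ∈ _
    rw [hge, pow_two]
    exact Ideal.mul_mem_mul x.2 he
  have hker : ∀ f : Ms, ψ f = 0 ↔ (f : MvPolynomial (Fin n) k) ∈ M ^ 2 ⊔ I := fun f => by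
    show (maximalIdeal Rm).toCotangent _ = 0 ↔ _
    rw [Ideal.toCotangent_eq_zero]
    show π f ∈ _ ↔ _
    have hmM : M.map (Ideal.Quotient.mk I) = 𝔪 := by
      rw [← h𝔪, Ideal.map_comap_of_surjective _ Ideal.Quotient.mk_surjective]
    have hcm : (𝔪 ^ 2).comap (Ideal.Quotient.mk I) = M ^ 2 ⊔ I := by
      rw [← hmM, ← Ideal.map_pow, Ideal.comap_map_of_surjective _ Ideal.Quotient.mk_surjective,
        ← RingHom.ker_eq_comap_bot, Ideal.mk_ker]
    rw [hπ, ← IsLocalization.AtPrime.map_eq_maximalIdeal 𝔪 Rm, ← Ideal.map_pow,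
      IsLocalization.algebraMap_mem_map_algebraMap_iff 𝔪.primeCompl]
    constructor
    · rintro ⟨s, hs, hsf⟩
      obtain ⟨s₀, rfl⟩ := Ideal.Quotient.mk_surjective s
      have hsM : s₀ ∉ M := fun h => hs ((hmk s₀).2 h)
      have h1 : s₀ * (f : MvPolynomial (Fin n) k) ∈ M ^ 2 ⊔ I := by
        rw [← hcm, Ideal.mem_comap, map_mul]; exact hsf
      have h2 : (C (eval a s₀)⁻¹ * s₀ - 1) * (f : MvPolynomial (Fin n) k) ∈ M ^ 2 ⊔ I :=
        Ideal.mem_sup_left (by rw [pow_two]; exact Ideal.mul_mem_mul (hinv s₀ hsM) f.2)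
      convert sub_mem (Ideal.mul_mem_left _ (C (eval a s₀)⁻¹) h1) h2 using 1
      ring
    · intro hf
      rw [← hcm, Ideal.mem_comap] at hf
      exact ⟨1, one_mem _, by rwa [one_mul]⟩
  let S : Submodule k (Fin n → k) := Submodule.span k (Set.range fun i => grad a (F i))
  let φ : Ms →ₗ[k] (Fin n → k) ⧸ S := S.mkQ ∘ₗ (grad a) ∘ₗ Ms.subtype
  have hgl : ∀ (c : k) (j : Fin n), grad a (C c * (X j - C (a j))) = c • (Pi.single j 1 : Fin n → k) := fun c j => by
    funext i
    rw [grad_apply, Pi.smul_apply]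
    rcases eq_or_ne j i with rfl | h
    · simp
    · simp [h, h.symm]
  have hφsurj : Function.Surjective φ := fun y => by
    obtain ⟨v, rfl⟩ := Submodule.mkQ_surjective S y
    refine ⟨⟨∑ j, C (v j) * (X j - C (a j)), sum_mem fun j _ => Ideal.mul_mem_left _ _ (sub_mem_eval a j)⟩, ?_⟩
    show S.mkQ (grad a _) = S.mkQ v
    refine congrArg _ ?_
    show grad a (∑ j, C (v j) * (X j - C (a j))) = v
    rw [map_sum, Finset.sum_congr rfl fun j _ => hgl (v j) j]
    funext i
    simp [Finset.sum_apply, Pi.single_apply]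
  have hkerφ : LinearMap.ker φ = LinearMap.ker ψ := by
    ext f
    rw [LinearMap.mem_ker, LinearMap.mem_ker, hker]
    show S.mkQ (grad a f) = 0 ↔ _
    rw [Submodule.mkQ_apply, Submodule.Quotient.mk_eq_zero]
    constructor
    · intro h
      obtain ⟨c, hc⟩ := (Submodule.mem_span_range_iff_exists_fun k).1 h
      have hw : ∑ i, C (c i) * F i ∈ I := sum_mem fun i _ => Ideal.mul_mem_left _ _ (hFI i)
      set d := (f : MvPolynomial (Fin n) k) - ∑ i, C (c i) * F i
      have hdM : d ∈ M := sub_mem f.2 (hIM hw)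
      have hdg : grad a d = 0 := by
        rw [map_sub, map_sum, sub_eq_zero, ← hc]
        refine Finset.sum_congr rfl fun i _ => ?_
        rw [C_mul', map_smul]
      have hd : d ∈ M ^ 2 := by
        have := taylor a d
        simpa [RingHom.mem_ker.1 hdM, hdg] using this
      rw [← sub_add_cancel (f : MvPolynomial (Fin n) k) (∑ i, C (c i) * F i)]
      exact Submodule.add_mem_sup hd hw
    · intro h
      obtain ⟨u, hu, w, hw, huw⟩ := Submodule.mem_sup.1 h
      rw [← huw, map_add, grad_of_mem_sq a hu, zero_add]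
      obtain ⟨g, hg⟩ := Ideal.mem_span_range_iff_exists_fun.1 (hI ▸ hw : w ∈ Ideal.span (Set.range F))
      rw [← hg, map_sum]
      refine sum_mem fun i _ => ?_
      rw [grad_mul, RingHom.mem_ker.1 (hIM (hFI i)), zero_smul, add_zero]
      exact S.smul_mem _ (Submodule.subset_span ⟨i, rfl⟩)
  have e : CotangentSpace Rm ≃ₗ[k] (Fin n → k) ⧸ S := (LinearMap.quotKerEquivOfSurjective ψ hψsurj).symm.trans
    ((Submodule.quotEquivOfEq _ _ hkerφ.symm).trans (LinearMap.quotKerEquivOfSurjective φ hφsurj))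
  have hres : Module.finrank k (ResidueField Rm) = 1 := by
    refine ((LinearEquiv.ofBijective (Algebra.linearMap k (ResidueField Rm))
      ⟨(algebraMap k (ResidueField Rm)).injective, fun y => ?_⟩).finrank_eq).symm.trans (Module.finrank_self k)
    obtain ⟨x, rfl⟩ := residue_surjective y
    obtain ⟨g, e, he, hge, -⟩ := happrox x
    refine ⟨eval a g, ?_⟩
    show residue Rm (algebraMap k Rm (eval a g)) = residue Rm x
    have h1 : π g - algebraMap k Rm (eval a g) ∈ maximalIdeal Rm := by
      rw [← π.commutes, ← map_sub π, hπM, RingHom.mem_ker, MvPolynomial.algebraMap_eq, map_sub, eval_C, sub_self]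
    refine (Ideal.Quotient.eq).2 ?_
    have h2 : π g - x ∈ maximalIdeal Rm := hge ▸ Ideal.mul_mem_left _ x he
    convert sub_mem h2 h1 using 1
    ring
  haveI : IsScalarTower k (ResidueField Rm) (CotangentSpace Rm) :=
    IsScalarTower.of_algebraMap_smul fun c y => by
      rw [IsScalarTower.algebraMap_apply k Rm (ResidueField Rm), algebraMap_smul, algebraMap_smul]
  have htower := Module.finrank_mul_finrank k (ResidueField Rm) (CotangentSpace Rm)
  rw [hres, one_mul] at htower
  have hrank : (Matrix.of fun i j => eval a (pderiv j (F i))).rank = Module.finrank k S :=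
    Matrix.rank_eq_finrank_span_row _
  rw [htower, e.finrank_eq, hrank, Submodule.finrank_quotient_add_finrank, Module.finrank_fin_fun]

end JacPointLib
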